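import Groth.Prelude.Def_Models
import Groth.Agent.S2173
import Groth.Agent.S2176
import Mathlib

/-!
# Contraction of a numerical type along a `(-1)`-index
-/

set_option autoImplicit false

open Finset Models Models.NumericalType

namespace NumTypeContrLib

section Data

variable {n : ℕ} (T : NumericalType (n + 1)) (h : T.IsMinusOne (Fin.last n))

/-- `a i l / w l`. -/
def cc (i : Fin n) : ℤ := T.a i.castSucc (Fin.last n) / T.w (Fin.last n)
/-- `a i l / w i`. -/
def dd (i : Fin n) : ℤ := T.a i.castSucc (Fin.last n) / T.w i.castSucc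

theorem a_symm (i j : Fin (n + 1)) : T.a i j = T.a j i := by
  conv_lhs => rw [← T.symm]
  rfl

theorem a_eq_cc (i : Fin n) : T.a i.castSucc (Fin.last n) = cc T i * T.w (Fin.last n) := by
  rw [cc, Int.ediv_mul_cancel]
  rw [a_symm T]
  exact T.w_dvd _ _

theorem a_eq_dd (i : Fin n) : T.a i.castSucc (Fin.last n) = dd T i * T.w i.castSucc := by
  rw [dd, Int.ediv_mul_cancel (T.w_dvd _ _)]

theorem cc_nonneg (i : Fin n) : 0 ≤ cc T i :=
  Int.ediv_nonneg (T.offDiag_nonneg _ _ (Fin.castSucc_lt_last i).ne) (T.w_pos _).le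

theorem dd_nonneg (i : Fin n) : 0 ≤ dd T i :=
  Int.ediv_nonneg (T.offDiag_nonneg _ _ (Fin.castSucc_lt_last i).ne) (T.w_pos _).le

/-- The new `w`. -/
def newW (i : Fin n) : ℤ :=
  if 2 ∣ cc T i ∧ ¬ 2 ∣ dd T i then T.w i.castSucc / 2 else T.w i.castSucc

theorem two_dvd_w (i : Fin n) (hi : 2 ∣ cc T i ∧ ¬ 2 ∣ dd T i) : 2 ∣ T.w i.castSucc := by
  have h1 : (2 : ℤ) ∣ dd T i * T.w i.castSucc := by
    rw [← a_eq_dd, a_eq_cc]; exact hi.1.mul_right _
  exact (Int.prime_two.dvd_or_dvd h1).resolve_left hi.2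

/-- The ratio `w / w'`. -/
def rr (i : Fin n) : ℤ := if 2 ∣ cc T i ∧ ¬ 2 ∣ dd T i then 2 else 1

theorem w_eq (i : Fin n) : T.w i.castSucc = rr T i * newW T i := by
  rw [rr, newW]
  split
  · rw [Int.mul_ediv_cancel' (two_dvd_w T i ‹_›)]
  · rw [one_mul]

theorem newW_pos (i : Fin n) : 0 < newW T i := by
  have h1 := w_eq T i
  have h2 := T.w_pos i.castSucc
  rw [h1] at h2
  rw [rr] at h2
  split at h2 <;> omega

theorem rr_div (i : Fin n) : T.w i.castSucc / newW T i = rr T i := by
  rw [w_eq T i, Int.mul_ediv_cancel _ (newW_pos T i).ne']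

theorem two_dvd_extra (i : Fin n) : 2 ∣ rr T i * dd T i * (cc T i - 1) := by
  rw [rr]
  split
  · exact (Dvd.intro _ rfl).mul_right _
  · rename_i hi
    rw [one_mul]
    by_cases hd : 2 ∣ dd T i
    · exact hd.mul_right _
    · have hc : ¬ 2 ∣ cc T i := fun hc => hi ⟨hc, hd⟩
      exact Dvd.dvd.mul_left (by omega) _

/-- The extra genus. -/
def ee (i : Fin n) : ℤ := rr T i * dd T i * (cc T i - 1) / 2

theorem two_mul_ee (i : Fin n) : 2 * ee T i = rr T i * dd T i * (cc T i - 1) :=
  Int.mul_ediv_cancel' (two_dvd_extra T i)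

theorem g_formula (i : Fin n) :
    (T.a i.castSucc (Fin.last n) ^ 2 - T.w (Fin.last n) * T.a i.castSucc (Fin.last n)) /
      (2 * newW T i * T.w (Fin.last n)) = ee T i := by
  have h1 : T.a i.castSucc (Fin.last n) ^ 2 - T.w (Fin.last n) * T.a i.castSucc (Fin.last n) =
      (2 * newW T i * T.w (Fin.last n)) * ee T i := by
    rw [show 2 * newW T i * T.w (Fin.last n) * ee T i = newW T i * T.w (Fin.last n) * (2 * ee T i) by ring,
      two_mul_ee, show newW T i * T.w (Fin.last n) * (rr T i * dd T i * (cc T i - 1)) =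
        (dd T i * (rr T i * newW T i)) * (cc T i * T.w (Fin.last n)) - T.w (Fin.last n) * (dd T i * (rr T i * newW T i)) by ring,
      ← w_eq, ← a_eq_dd, ← a_eq_cc]
    ring
  rw [h1, Int.mul_ediv_cancel_left]
  exact mul_ne_zero (mul_ne_zero two_ne_zero (newW_pos T i).ne') (T.w_pos _).ne'

include h in
theorem a_formula (i j : Fin n) :
    T.a i.castSucc j.castSucc - T.a i.castSucc (Fin.last n) * T.a j.castSucc (Fin.last n) / T.a (Fin.last n) (Fin.last n) =
      T.a i.castSucc j.castSucc + cc T i * cc T j * T.w (Fin.last n) := by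
  rw [h.2, a_eq_cc T i, a_eq_cc T j,
    show cc T i * T.w (Fin.last n) * (cc T j * T.w (Fin.last n)) =
      (-T.w (Fin.last n)) * (-(cc T i * cc T j * T.w (Fin.last n))) by ring,
    Int.mul_ediv_cancel_left _ (neg_ne_zero.2 (T.w_pos _).ne')]
  ring

include h in
theorem sum_cc : ∑ j, cc T j * T.m j.castSucc = T.m (Fin.last n) := by
  have h0 := congrFun T.mulVec_m (Fin.last n)
  rw [Matrix.mulVec, dotProduct, Fin.sum_univ_castSucc, h.2, Pi.zero_apply] at h0
  have h1 : T.w (Fin.last n) * ((∑ j, cc T j * T.m j.castSucc) - T.m (Fin.last n)) = 0 := by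
    rw [mul_sub, Finset.mul_sum, ← h0]
    rw [show (∑ j, T.a (Fin.last n) j.castSucc * T.m j.castSucc) = ∑ j, T.w (Fin.last n) * (cc T j * T.m j.castSucc) from
      Finset.sum_congr rfl fun j _ => by rw [a_symm T, a_eq_cc]; ring]
    ring
  exact sub_eq_zero.1 ((mul_eq_zero.1 h1).resolve_left (T.w_pos _).ne')

include h in
theorem pos_n : 0 < n := by
  by_contra hn
  obtain rfl : n = 0 := by omega
  have h0 := congrFun T.mulVec_m (Fin.last 0)
  rw [Matrix.mulVec, dotProduct, Fin.sum_univ_one, Pi.zero_apply] at h0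
  rcases mul_eq_zero.1 h0 with h1 | h1
  · rw [show (0 : Fin 1) = Fin.last 0 from rfl, h.2] at h1
    exact (T.w_pos (Fin.last 0)).ne' (neg_eq_zero.1 h1)
  · exact (T.m_pos _).ne' h1

/-- The contraction. -/
noncomputable def contract : NumericalType n where
  m i := T.m i.castSucc
  a := Matrix.of fun i j => T.a i.castSucc j.castSucc + cc T i * cc T j * T.w (Fin.last n)
  w := newW T
  g i := rr T i * (T.g i.castSucc - 1) + 1 + ee T i
  pos := pos_n T h
  m_pos i := T.m_pos _
  w_pos := newW_pos T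
  g_nonneg i := by
    have hg := T.g_nonneg i.castSucc
    have he := two_mul_ee T i
    have hd := dd_nonneg T i
    have hc := cc_nonneg T i
    rcases hc.eq_or_lt with hc0 | hc1
    · have h1 : dd T i * T.w i.castSucc = 0 := by rw [← a_eq_dd, a_eq_cc, ← hc0, zero_mul]
      have hd0 : dd T i = 0 := (mul_eq_zero.1 h1).resolve_right (T.w_pos _).ne'
      have hr : rr T i = 1 := if_neg fun hi => hi.2 (hd0 ▸ dvd_zero _)
      rw [hd0, mul_zero, zero_mul] at he
      rw [hr]; omega
    · by_cases hi : 2 ∣ cc T i ∧ ¬ 2 ∣ dd T i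
      · have hr : rr T i = 2 := if_pos hi
        have hd1 : 1 ≤ dd T i := by omega
        have hc2 : 2 ≤ cc T i := by omega
        rw [hr] at he ⊢
        nlinarith
      · have hr : rr T i = 1 := if_neg hi
        rw [hr] at he ⊢
        have : 0 ≤ dd T i * (cc T i - 1) := mul_nonneg hd (by omega)
        rw [one_mul] at he ⊢
        omega
  symm := by
    ext i j
    show T.a j.castSucc i.castSucc + cc T j * cc T i * T.w _ = T.a i.castSucc j.castSucc + cc T i * cc T j * T.w _
    rw [a_symm T, mul_comm (cc T j)]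
  offDiag_nonneg i j hij := add_nonneg (T.offDiag_nonneg _ _ fun e => hij (Fin.castSucc_injective _ e))
    (mul_nonneg (mul_nonneg (cc_nonneg T i) (cc_nonneg T j)) (T.w_pos _).le)
  connected I hne hnu := by
    classical
    have key : ∀ (J : Finset (Fin n)), J.Nonempty →
        (∃ i ∈ J, ∃ j ∉ J, 0 < T.a i.castSucc j.castSucc) ∨ ∃ i ∈ J, 0 < cc T i := by
      intro J hJ
      obtain ⟨i, hi, j, hj, hij⟩ := T.connected (J.map Fin.castSuccEmb) (hJ.map) (fun e => by
        have := e ▸ Finset.mem_univ (Fin.last n)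
        obtain ⟨x, -, hx⟩ := Finset.mem_map.1 this
        exact (Fin.castSucc_lt_last x).ne hx)
      obtain ⟨i, hiJ, rfl⟩ := Finset.mem_map.1 hi
      have hne : i.castSucc ≠ j := fun e => hj (e ▸ hi)
      have hpos : 0 < T.a i.castSucc j := lt_of_le_of_ne (T.offDiag_nonneg _ _ hne) (Ne.symm hij)
      induction j using Fin.lastCases with
      | last =>
        refine Or.inr ⟨i, hiJ, lt_of_le_of_ne (cc_nonneg T i) fun e => ?_⟩
        rw [a_eq_cc, ← e, zero_mul] at hpos
        exact lt_irrefl _ hpos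
      | cast j => exact Or.inl ⟨i, hiJ, j, fun e => hj (Finset.mem_map_of_mem _ e), hpos⟩
    have hsuff : ∀ i j, i ≠ j → (0 < T.a i.castSucc j.castSucc ∨ (0 < cc T i ∧ 0 < cc T j)) →
        T.a i.castSucc j.castSucc + cc T i * cc T j * T.w (Fin.last n) ≠ 0 := by
      intro i j hij hor
      have h1 := T.offDiag_nonneg i.castSucc j.castSucc (fun e => hij (Fin.castSucc_injective _ e))
      have h2 := mul_nonneg (mul_nonneg (cc_nonneg T i) (cc_nonneg T j)) (T.w_pos (Fin.last n)).le
      rcases hor with hpos | ⟨hi, hj⟩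
      · omega
      · have := mul_pos (mul_pos hi hj) (T.w_pos (Fin.last n))
        omega
    rcases key I hne with ⟨i, hi, j, hj, hp⟩ | ⟨i, hi, hci⟩
    · exact ⟨i, hi, j, hj, hsuff i j (fun e => hj (e ▸ hi)) (Or.inl hp)⟩
    · rcases key Iᶜ (by rwa [← compl_ne_univ_iff_nonempty, compl_compl]) with ⟨j, hj, i', hi', hp⟩ | ⟨j, hj, hcj⟩
      · rw [Finset.mem_compl] at hj hi'
        rw [a_symm T] at hp
        exact ⟨i', not_not.1 hi', j, hj, hsuff i' j (fun e => hj (e ▸ not_not.1 hi')) (Or.inl hp)⟩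
      · rw [Finset.mem_compl] at hj
        exact ⟨i, hi, j, hj, hsuff i j (fun e => hj (e ▸ hi)) (Or.inr ⟨hci, hcj⟩)⟩
  mulVec_m := by
    funext i
    have h0 := congrFun T.mulVec_m i.castSucc
    rw [Matrix.mulVec, dotProduct, Fin.sum_univ_castSucc, a_eq_cc, Pi.zero_apply] at h0
    show ∑ j, (T.a i.castSucc j.castSucc + cc T i * cc T j * T.w (Fin.last n)) * T.m j.castSucc = 0
    simp only [add_mul, Finset.sum_add_distrib]
    rw [show (∑ j, cc T i * cc T j * T.w (Fin.last n) * T.m j.castSucc) =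
      cc T i * T.w (Fin.last n) * ∑ j, cc T j * T.m j.castSucc by
        rw [Finset.mul_sum]; exact Finset.sum_congr rfl fun j _ => by ring, sum_cc T h]
    exact h0
  w_dvd i j := by
    show newW T i ∣ T.a i.castSucc j.castSucc + cc T i * cc T j * T.w (Fin.last n)
    have hw : newW T i ∣ T.w i.castSucc := ⟨rr T i, (w_eq T i).trans (mul_comm _ _)⟩
    refine dvd_add (hw.trans (T.w_dvd _ _)) ?_
    rw [show cc T i * cc T j * T.w (Fin.last n) = cc T j * (cc T i * T.w (Fin.last n)) by ring, ← a_eq_cc, a_eq_dd]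
    exact dvd_mul_of_dvd_right (dvd_mul_of_dvd_right hw _) _

include h in
theorem isContraction : T.IsContraction (contract T h) :=
  ⟨fun i => rfl, fun i j => (a_formula T h i j).symm, fun i => rfl, fun i => by
    show rr T i * (T.g i.castSucc - 1) + 1 + ee T i = T.w i.castSucc / newW T i * _ + 1 + _ / (2 * newW T i * _)
    rw [rr_div, g_formula]⟩

variable {T' : NumericalType n} (hT : T.IsContraction T')

include hT in
theorem w'_eq (i : Fin n) : T'.w i = newW T i := hT.2.2.1 i

include h hT in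
theorem a'_eq (i j : Fin n) : T'.a i j = T.a i.castSucc j.castSucc + cc T i * cc T j * T.w (Fin.last n) :=
  (hT.2.1 i j).trans (a_formula T h i j)

include hT in
theorem g'_eq (i : Fin n) : T'.g i = rr T i * (T.g i.castSucc - 1) + 1 + ee T i := by
  rw [hT.2.2.2 i, w'_eq T hT, rr_div, g_formula]

include h hT in
theorem genus_eq : T'.genus = T.genus := by
  have h1 : ∀ {k : ℕ} (S : NumericalType k),
      2 * (S.genus - 1) = (∑ i, 2 * (S.m i * S.w i * (S.g i - 1))) - ∑ i, S.m i * S.a i i := by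
    intro k S
    rw [NumericalType.genus, ← Finset.mul_sum]
    have := Int.mul_ediv_cancel' (Groth.Agent.S2173.result S)
    linarith
  have hx := h1 T'
  have hy := h1 T
  rw [Fin.sum_univ_castSucc, Fin.sum_univ_castSucc, h.1, h.2] at hy
  have h2 : ∀ i, 2 * (T'.m i * T'.w i * (T'.g i - 1)) =
      2 * (T.m i.castSucc * T.w i.castSucc * (T.g i.castSucc - 1)) +
        T.w (Fin.last n) * (T.m i.castSucc * cc T i * cc T i) - T.w (Fin.last n) * (cc T i * T.m i.castSucc) := by
    intro i
    rw [g'_eq T hT, w'_eq T hT, hT.1]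
    linear_combination (T.m i.castSucc * newW T i) * two_mul_ee T i +
      (-(2 * T.m i.castSucc * (T.g i.castSucc - 1))) * w_eq T i +
      (T.m i.castSucc * (cc T i - 1)) * (-(dd T i) * w_eq T i - a_eq_dd T i + a_eq_cc T i)
  rw [Finset.sum_congr rfl fun i _ => h2 i, Finset.sum_sub_distrib, Finset.sum_add_distrib, ← Finset.mul_sum _ _ (T.w (Fin.last n)),
    ← Finset.mul_sum _ _ (T.w (Fin.last n)), sum_cc T h,
    Finset.sum_congr rfl fun i (_ : i ∈ univ) => show T'.m i * T'.a i i = T.m i.castSucc * T.a i.castSucc i.castSucc +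
      T.w (Fin.last n) * (T.m i.castSucc * cc T i * cc T i) by rw [hT.1, a'_eq T h hT]; ring,
    Finset.sum_add_distrib, ← Finset.mul_sum _ _ (T.w (Fin.last n))] at hx
  linarith

include h hT in
theorem exists_pic_hom : ∃ f : T.Pic →+ T'.Pic, Function.Injective f ∧ ∀ y : T'.Pic, ∃ x : T.Pic, 2 • y = f x := by
  classical
  let D : (Fin (n + 1) → ℤ) →ₗ[ℤ] (Fin n → ℤ) :=
    { toFun := fun x i => rr T i * (x i.castSucc + dd T i * x (Fin.last n))
      map_add' := fun x y => by funext i; simp only [Pi.add_apply]; ring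
      map_smul' := fun c x => by funext i; simp only [Pi.smul_apply, smul_eq_mul, RingHom.id_apply]; ring }
  have hll : T.picMatrix (Fin.last n) (Fin.last n) = -1 := by
    rw [NumericalType.picMatrix, h.2, Int.neg_ediv_of_dvd (dvd_refl _), Int.ediv_self (T.w_pos _).ne']
  have hlj : ∀ j : Fin n, T.picMatrix (Fin.last n) j.castSucc = cc T j := fun j => by
    rw [NumericalType.picMatrix, a_symm T]; rfl
  have hM : ∀ i j : Fin n, T'.picMatrix i j = rr T i * (T.picMatrix i.castSucc j.castSucc + dd T i * cc T j) := by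
    intro i j
    rw [NumericalType.picMatrix, NumericalType.picMatrix, w'_eq T hT, a'_eq T h hT]
    refine Int.ediv_eq_of_eq_mul_right (newW_pos T i).ne' ?_
    have h1 := Int.mul_ediv_cancel' (T.w_dvd i.castSucc j.castSucc)
    linear_combination (-1 : ℤ) * h1 + (T.a i.castSucc j.castSucc / T.w i.castSucc + dd T i * cc T j) * w_eq T i +
      (-cc T j) * (a_eq_cc T i).symm.trans (a_eq_dd T i) * (-1)
  have hrow : ∀ (i : Fin n) (x : Fin (n + 1) → ℤ), T.picMatrix.mulVec x i.castSucc =
      (∑ j : Fin n, T.picMatrix i.castSucc j.castSucc * x j.castSucc) + dd T i * x (Fin.last n) := fun i x => by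
    rw [Matrix.mulVec, dotProduct, Fin.sum_univ_castSucc]; rfl
  have hlast : ∀ x : Fin (n + 1) → ℤ, T.picMatrix.mulVec x (Fin.last n) = (∑ j, cc T j * x j.castSucc) - x (Fin.last n) := by
    intro x
    rw [Matrix.mulVec, dotProduct, Fin.sum_univ_castSucc, hll]
    simp only [hlj]
    ring
  have hM' : ∀ (z : Fin n → ℤ) (i : Fin n), T'.picMatrix.mulVec z i =
      rr T i * ((∑ j, T.picMatrix i.castSucc j.castSucc * z j) + dd T i * ∑ j, cc T j * z j) := by
    intro z i
    rw [Matrix.mulVec, dotProduct, Finset.mul_sum, ← Finset.sum_add_distrib, Finset.mul_sum]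
    exact Finset.sum_congr rfl fun j _ => by rw [hM]; ring
  refine ⟨(Submodule.mapQ _ (LinearMap.range (Matrix.mulVecLin T'.picMatrix)) D ?_).toAddMonoidHom, ?_, ?_⟩
  · rintro _ ⟨x, rfl⟩
    refine ⟨fun j => x j.castSucc, funext fun i => ?_⟩
    show T'.picMatrix.mulVec _ i = rr T i * (T.picMatrix.mulVec x i.castSucc + dd T i * T.picMatrix.mulVec x (Fin.last n))
    rw [hM', hrow, hlast]
    ring
  · rw [injective_iff_map_eq_zero]
    intro q hq
    obtain ⟨x, rfl⟩ := Submodule.Quotient.mk_surjective _ q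
    obtain ⟨z, hz⟩ := (Submodule.Quotient.mk_eq_zero _).1 hq
    refine (Submodule.Quotient.mk_eq_zero _).2 ⟨Fin.snoc z ((∑ j, cc T j * z j) - x (Fin.last n)), funext fun k => ?_⟩
    show T.picMatrix.mulVec (Fin.snoc z ((∑ j, cc T j * z j) - x (Fin.last n))) k = x k
    induction k using Fin.lastCases with
    | last =>
      rw [hlast]
      simp only [Fin.snoc_castSucc, Fin.snoc_last]
      ring
    | cast i =>
      have h1 : T'.picMatrix.mulVec z i = rr T i * (x i.castSucc + dd T i * x (Fin.last n)) := congrFun hz i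
      rw [hM'] at h1
      have hr0 : rr T i ≠ 0 := by rw [rr]; split <;> norm_num
      have h2 := mul_left_cancel₀ hr0 h1
      rw [hrow]
      simp only [Fin.snoc_castSucc, Fin.snoc_last]
      linarith
  · intro q
    obtain ⟨y, rfl⟩ := Submodule.Quotient.mk_surjective _ q
    refine ⟨Submodule.Quotient.mk (Fin.snoc (fun i => 2 / rr T i * y i) 0), ?_⟩
    rw [← Submodule.Quotient.mk_smul]
    refine congrArg Submodule.Quotient.mk (funext fun i => ?_)
    show (2 • y) i = rr T i * (_ + dd T i * _)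
    rw [Fin.snoc_castSucc, Fin.snoc_last, mul_zero, add_zero, Pi.smul_apply, nsmul_eq_mul, rr]
    split <;> norm_num

end Data

/-- Permute the indices. -/
noncomputable def perm {n : ℕ} (T : NumericalType n) (σ : Equiv.Perm (Fin n)) : NumericalType n where
  m := T.m ∘ σ
  a := T.a.submatrix σ σ
  w := T.w ∘ σ
  g := T.g ∘ σ
  pos := T.pos
  m_pos _ := T.m_pos _
  w_pos _ := T.w_pos _
  g_nonneg _ := T.g_nonneg _
  symm := T.symm.submatrix σ
  offDiag_nonneg i j hij := T.offDiag_nonneg _ _ (σ.injective.ne hij)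
  connected I hne hnu := by
    obtain ⟨i, hi, j, hj, hij⟩ := T.connected (I.map σ.toEmbedding) hne.map (fun e => hnu (by
      rw [Finset.eq_univ_iff_forall] at e ⊢
      intro x
      simpa using e (σ x)))
    obtain ⟨i', hi', rfl⟩ := Finset.mem_map.1 hi
    obtain ⟨j, rfl⟩ := σ.surjective j
    exact ⟨i', hi', j, fun e => hj (Finset.mem_map_of_mem _ e), hij⟩
  mulVec_m := by
    rw [Matrix.submatrix_mulVec_equiv, Function.comp_assoc, Equiv.self_comp_symm, Function.comp_id, T.mulVec_m]
    rfl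
  w_dvd i j := T.w_dvd _ _

theorem genus_perm {n : ℕ} (T : NumericalType n) (σ : Equiv.Perm (Fin n)) : (perm T σ).genus = T.genus := by
  rw [NumericalType.genus, NumericalType.genus, ← Equiv.sum_comp σ (fun i => T.m i * T.w i * (T.g i - 1)),
    ← Equiv.sum_comp σ (fun i => T.m i * T.a i i)]
  rfl

theorem pic_perm {n : ℕ} (T : NumericalType n) (σ : Equiv.Perm (Fin n)) :
    Nonempty (T.Pic ≃+ (perm T σ).Pic) := by
  let e : (Fin n → ℤ) ≃ₗ[ℤ] (Fin n → ℤ) := LinearEquiv.funCongrLeft ℤ ℤ σ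
  refine ⟨(Submodule.Quotient.equiv _ _ e ?_).toAddEquiv⟩
  have hM : (perm T σ).picMatrix = T.picMatrix.submatrix σ σ := rfl
  rw [hM]
  ext x
  constructor
  · rintro ⟨_, ⟨z, rfl⟩, rfl⟩
    refine ⟨z ∘ σ, ?_⟩
    show (T.picMatrix.submatrix σ σ).mulVec (z ∘ σ) = (T.picMatrix.mulVec z) ∘ σ
    rw [Matrix.submatrix_mulVec_equiv, Function.comp_assoc, Equiv.self_comp_symm, Function.comp_id]
  · rintro ⟨z, rfl⟩
    refine ⟨T.picMatrix.mulVec (z ∘ σ.symm), ⟨_, rfl⟩, ?_⟩
    show (T.picMatrix.mulVec (z ∘ σ.symm)) ∘ σ = (T.picMatrix.submatrix σ σ).mulVec z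
    rw [Matrix.submatrix_mulVec_equiv]

theorem addEquiv_int {H : Type} [AddCommGroup H] (f : H →+ ℤ) (hf : Function.Injective f)
    (h2 : ∃ x, f x = 2) : Nonempty (H ≃+ ℤ) := by
  obtain ⟨g, hg⟩ := Int.subgroup_cyclic f.range
  have hg0 : g ≠ 0 := fun h => by
    obtain ⟨x, hx⟩ := h2
    have : (2 : ℤ) ∈ f.range := ⟨x, hx⟩
    rw [hg, h, AddSubgroup.closure_singleton_zero, AddSubgroup.mem_bot] at this
    omega
  refine ⟨(AddMonoidHom.ofInjective hf).trans ((AddEquiv.addSubgroupCongr (hg.trans (AddSubgroup.zmultiples_eq_closure g).symm)).trans ?_)⟩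
  refine (AddEquiv.ofBijective (zmultiplesHom (AddSubgroup.zmultiples g) ⟨g, AddSubgroup.mem_zmultiples g⟩) ⟨fun a b hab => ?_, fun x => ?_⟩).symm
  · have h' := congrArg Subtype.val hab
    simp only [zmultiplesHom_apply, AddSubgroup.coe_zsmul, smul_eq_mul] at h'
    exact mul_right_cancel₀ hg0 h'
  · obtain ⟨k, hk⟩ := AddSubgroup.mem_zmultiples_iff.1 x.2
    exact ⟨k, Subtype.ext hk⟩

theorem pic_equiv_int : ∀ (n : ℕ) (T : NumericalType n), T.genus ≤ 0 → Nonempty (T.Pic ≃+ ℤ) := by
  intro n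
  induction n with
  | zero => intro T; exact absurd T.pos (by omega)
  | succ n ih =>
    intro T hg
    rcases Nat.eq_zero_or_pos n with rfl | hn
    · have h0 : T.a 0 0 = 0 := by
        have h0 := congrFun T.mulVec_m 0
        rw [Matrix.mulVec, dotProduct, Fin.sum_univ_one, Pi.zero_apply] at h0
        exact (mul_eq_zero.1 h0).resolve_right (T.m_pos 0).ne'
      have hM : T.picMatrix = 0 := by
        ext i j
        fin_cases i; fin_cases j
        show T.a 0 0 / T.w 0 = 0
        rw [h0, Int.zero_ediv]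
      refine ⟨((Submodule.quotEquivOfEqBot _ ?_).trans (LinearEquiv.funUnique (Fin 1) ℤ ℤ)).toAddEquiv⟩
      rw [hM, Matrix.mulVecLin_zero, LinearMap.range_zero]
    · obtain ⟨i, hi⟩ : ∃ i, T.IsMinusOne i := by
        by_contra hcon
        push_neg at hcon
        have := Groth.Agent.S2176.result T hcon (by omega)
        omega
      let σ := Equiv.swap i (Fin.last n)
      have h : (perm T σ).IsMinusOne (Fin.last n) := by
        show T.g (σ (Fin.last n)) = 0 ∧ T.a (σ (Fin.last n)) (σ (Fin.last n)) = -T.w (σ (Fin.last n))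
        rw [Equiv.swap_apply_right]
        exact hi
      obtain ⟨f, hf, hcok⟩ := exists_pic_hom _ h (isContraction _ h)
      obtain ⟨e⟩ := ih (contract _ h) (by rw [genus_eq _ h (isContraction _ h), genus_perm]; exact hg)
      obtain ⟨e0⟩ := pic_perm T σ
      refine addEquiv_int ((e.toAddMonoidHom.comp f).comp e0.toAddMonoidHom) ((e.injective.comp hf).comp e0.injective) ?_
      obtain ⟨x, hx⟩ := hcok (e.symm 1)
      refine ⟨e0.symm x, ?_⟩
      show e (f (e0 (e0.symm x))) = 2
      rw [e0.apply_symm_apply, ← hx, map_nsmul, e.apply_symm_apply]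
      rfl

end NumTypeContrLib
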